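import Mathlib
import Cfsg.Agent.BpTab.Base
import Cfsg.Agent.Lib.ComponentSolvable
import Cfsg.Agent.Lib.PComponents
import Cfsg.Agent.S0144
import Cfsg.Agent.CpAut.Alt
import Cfsg.Agent.S0493

-- merged: Cfsg.Agent.BpAlt.Perm
section

/-!
# S1332: centralizers in symmetric and alternating groups are good

* `pLayer_le_centralizer` : the `p`-layer centralizes every normal `p`-subgroup (any finite group);
* `good_of_pair` : two homomorphisms onto good groups whose kernels meet in a `p`-group;
* `good_alt`, `good_perm` : `A_n` and `S_n` are good;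
* `good_cent_perm` : `C(σ)` in `S_n`, `σ` of order `p`;
* `good_cent_alt` : `C(x)` in `A_n`, `x` of order `p`.
-/

set_option autoImplicit false
set_option linter.unusedSectionVars false

namespace Cfsg.Agent.BpAlt

open Subgroup Cfsg Cfsg.Agent.Lib Equiv Equiv.Perm
open Cfsg.Agent.BpTab (Good)

section General

variable {H : Type*} [Group H] [Finite H] {p : ℕ} [hp : Fact p.Prime]

/-- The `p`-layer centralizes every normal `p`-subgroup. -/
theorem pLayer_le_centralizer {P : Subgroup H} (hn : P.Normal) (hP : IsPGroup p ↥P) :
    pLayer p H ≤ centralizer (P : Set H) := by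
  rw [← commutator_eq_bot_iff_le_centralizer]
  have hn' : (P.map (QuotientGroup.mk' (pPrimeCore p H))).Normal :=
    hn.map _ (QuotientGroup.mk'_surjective _)
  have hs : Group.IsSolvable ↥(P.map (QuotientGroup.mk' (pPrimeCore p H))) := by
    have h1 : IsPGroup p ↥(P.map (QuotientGroup.mk' (pPrimeCore p H))) := hP.map _
    have h2 : Group.IsNilpotent ↥(P.map (QuotientGroup.mk' (pPrimeCore p H))) := h1.isNilpotent
    exact inferInstance
  have h1 : ⁅pLayer p H, P⁆ ≤ pPrimeCore p H := by
    have h2 := ComponentSolvable.layer_le_centralizer_of_normal_solvable hn' hs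
    rw [← PComponents.map_pLayer, ← commutator_eq_bot_iff_le_centralizer, ← Subgroup.map_commutator,
      Subgroup.map_eq_bot_iff, QuotientGroup.ker_mk'] at h2
    exact h2
  have h3 : ⁅pLayer p H, P⁆ ≤ P := commutator_le_right _ _
  have h4 : P ⊓ pPrimeCore p H = ⊥ := by
    apply Subgroup.inf_eq_bot_of_coprime
    obtain ⟨k, hk⟩ := hP.exists_card_eq
    rw [hk]
    exact (Cores.pPrimeCore_coprime (G := H) p).symm.pow_left k
  exact le_bot_iff.mp ((le_inf h3 h1).trans h4.le)

theorem good_of_pair {A B : Type*} [Group A] [Finite A] [Group B] [Finite B] (f : H →* A) (g : H →* B)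
    (hf : Function.Surjective f) (hg : Function.Surjective g) (hA : Good p A) (hB : Good p B)
    (hk : IsPGroup p ↥(f.ker ⊓ g.ker)) : Good p H := by
  have h1 : ⁅pPrimeCore p H, pLayer p H⁆ ≤ f.ker ⊓ g.ker := by
    rw [commutator_comm]
    exact le_inf (hA.commutator_le_ker hf) (hB.commutator_le_ker hg)
  unfold Good
  rw [commutator_comm]
  apply BpTab.commutator_pLayer_eq_bot
  rw [eq_bot_iff]
  refine (commutator_mono h1 le_rfl).trans ?_
  rw [commutator_comm]
  exact (commutator_eq_bot_iff_le_centralizer.mpr (pLayer_le_centralizer inferInstance hk)).le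

end General

/-! ### `A_n` and `S_n` -/

section Sym

variable {β : Type*} [Fintype β] [DecidableEq β] {p : ℕ} [hp : Fact p.Prime]

theorem solvable_perm_of_le (h : Fintype.card β ≤ 4) : Group.IsSolvable (Perm β) := by
  have h1 : Nat.card (Perm β) = (Fintype.card β).factorial := by
    rw [Nat.card_perm, Nat.card_eq_fintype_card]
  have h2 : ∃ a b : ℕ, Nat.card (Perm β) = 2 ^ a * 3 ^ b := by
    rw [h1]
    set m := Fintype.card β
    interval_cases m
    · exact ⟨0, 0, rfl⟩
    · exact ⟨0, 0, rfl⟩
    · exact ⟨1, 0, rfl⟩
    · exact ⟨1, 1, rfl⟩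
    · exact ⟨3, 1, rfl⟩
  obtain ⟨a, b, hab⟩ := h2
  exact Cfsg.Agent.S0144.result 2 3 a b Nat.prime_two Nat.prime_three hab

theorem good_alt : Good p ↥(alternatingGroup β) := by
  rcases Nat.lt_or_ge (Fintype.card β) 5 with h | h
  · have hs := solvable_perm_of_le (β := β) (by omega)
    exact BpTab.good_of_solvable inferInstance
  · have hs : IsSimpleGroup (alternatingGroup β) := alternatingGroup.isSimpleGroup (by rwa [Nat.card_eq_fintype_card])
    exact BpTab.good_of_simple hs

theorem good_perm : Good p (Perm β) := by
  rcases Nat.lt_or_ge (Fintype.card β) 2 with h | h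
  · exact BpTab.good_of_solvable (solvable_perm_of_le (by omega))
  · have hn : (alternatingGroup β).Normal := inferInstance
    refine BpTab.Good.of_solvable_quotient (N := alternatingGroup β) good_alt ?_
    have : Nontrivial β := Fintype.one_lt_card_iff_nontrivial.mp h
    have e := QuotientGroup.quotientKerEquivRange (Equiv.Perm.sign (α := β))
    have hsol : Group.IsSolvable ↥(Equiv.Perm.sign (α := β)).range := inferInstance
    exact Group.isSolvable_of_isSolvable_injective (f := e.toMonoidHom) e.injective

end Sym

/-! ### centralizers in `S_n` -/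

section Cent

variable {α : Type*} [Fintype α] [DecidableEq α] (σ : Perm α) {p : ℕ} [hp : Fact p.Prime]

/-- action of the centralizer on the fixed points -/
def rest : ↥(centralizer ({σ} : Set (Perm α))) →* Perm (Function.fixedPoints σ) where
  toFun c := subtypePerm (c : Perm α)
    (fun _ => Equiv.Perm.apply_mem_fixedPoints_iff_mem_of_mem_centralizer c.2)
  map_one' := rfl
  map_mul' _ _ := rfl

theorem rest_apply (c : ↥(centralizer ({σ} : Set (Perm α)))) (x : Function.fixedPoints σ) :
    ((rest σ c x : Function.fixedPoints σ) : α) = (c : Perm α) x := rfl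

theorem rest_surjective : Function.Surjective (rest σ) := by
  intro u
  have h1 : ofSubtype u ∈ centralizer ({σ} : Set (Perm α)) := by
    rw [mem_centralizer_singleton_iff]
    exact Disjoint.commute (disjoint_iff_disjoint_support.mpr (Equiv.Perm.ofSubtype_support_disjoint u))
  refine ⟨⟨ofSubtype u, h1⟩, ?_⟩
  ext x
  rw [rest_apply, ofSubtype_apply_coe]

variable {σ}

theorem support_card (hσ : orderOf σ = p) {c : Perm α} (hc : c ∈ σ.cycleFactorsFinset) : c.support.card = p := by
  have h1 : c.support.card ∈ σ.cycleType := by
    rw [cycleType_def, Multiset.mem_map]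
    exact ⟨c, hc, rfl⟩
  have h2 := dvd_of_mem_cycleType h1
  rw [hσ] at h2
  rcases (Nat.dvd_prime hp.out).mp h2 with h | h
  · have h3 := two_le_of_mem_cycleType h1
    omega
  · exact h

theorem toPermHom_surjective (hσ : orderOf σ = p) : Function.Surjective (OnCycleFactors.toPermHom σ) := by
  rw [← MonoidHom.range_eq_top, eq_top_iff]
  intro τ _
  rw [OnCycleFactors.mem_range_toPermHom_iff]
  intro c
  rw [support_card hσ (τ c).2, support_card hσ c.2]

theorem pow_ker (hσ : orderOf σ = p) (c : ↥(centralizer ({σ} : Set (Perm α)))) (h1 : rest σ c = 1)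
    (h2 : OnCycleFactors.toPermHom σ c = 1) : c ^ p = 1 := by
  have h3 : (c : Perm α) ∈ (OnCycleFactors.kerParam σ).range := by
    rw [OnCycleFactors.kerParam_range_eq]
    exact ⟨c, h2, rfl⟩
  obtain ⟨⟨u, v⟩, huv⟩ := h3
  have hv : v ^ p = 1 := by
    funext d
    obtain ⟨i, hi⟩ := mem_zpowers_iff.1 (v d).2
    apply Subtype.ext
    have hd : (d : Perm α) ^ p = 1 := by
      have h4 := (mem_cycleFactorsFinset_iff.mp d.2).1.orderOf
      rw [support_card hσ d.2] at h4
      rw [← h4]
      exact pow_orderOf_eq_one _
    change ((v d : ↥(zpowers (d : Perm α))) : Perm α) ^ p = 1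
    rw [← hi, ← zpow_natCast, ← zpow_mul, mul_comm, zpow_mul, zpow_natCast, hd, one_zpow]
  have h5 : (c : Perm α) ^ p = OnCycleFactors.kerParam σ (u ^ p, 1) := by
    rw [← huv, ← map_pow]
    congr 1
    exact Prod.ext rfl hv
  apply Subtype.ext
  change (c : Perm α) ^ p = 1
  ext x
  rw [h5, OnCycleFactors.kerParam_apply]
  split_ifs with hx
  · rfl
  · rw [cycleOf_mem_cycleFactorsFinset_iff, mem_support, not_not] at hx
    have hc : (c : Perm α) x = x := by
      have h6 := congrArg (fun f => ((f ⟨x, hx⟩ : Function.fixedPoints σ) : α)) h1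
      exact h6
    have hc' : ((c : Perm α) ^ p) x = x := by
      have h7 : ∀ n : ℕ, ((c : Perm α) ^ n) x = x := by
        intro n
        induction n with
        | zero => rfl
        | succ n ih => rw [pow_succ, Perm.mul_apply, hc, ih]
      exact h7 p
    rw [h5, OnCycleFactors.kerParam_apply, dif_neg] at hc'
    · exact hc'
    · rw [cycleOf_mem_cycleFactorsFinset_iff, mem_support, not_not]
      exact hx

/-- The centralizer in `S_n` of a permutation of order `p` is good. -/
theorem good_cent_perm (hσ : orderOf σ = p) : Good p ↥(centralizer ({σ} : Set (Perm α))) := by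
  refine good_of_pair (rest σ) (OnCycleFactors.toPermHom σ) (rest_surjective σ) (toPermHom_surjective hσ)
    good_perm good_perm ?_
  intro c
  refine ⟨1, ?_⟩
  apply Subtype.ext
  rw [pow_one]
  exact pow_ker hσ (c : ↥(centralizer ({σ} : Set (Perm α)))) (MonoidHom.mem_ker.mp c.2.1) (MonoidHom.mem_ker.mp c.2.2)

/-- The centralizer in `A_n` of an element of order `p` is good. -/
theorem good_cent_alt (x : alternatingGroup α) (hx : orderOf x = p) :
    Good p ↥(centralizer ({x} : Set ↥(alternatingGroup α))) := by
  have hσ : orderOf (x : Perm α) = p := by rw [Subgroup.orderOf_coe, hx]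
  have h1 := good_cent_perm hσ
  -- the inclusion into the centralizer in `S_n`
  let f : ↥(centralizer ({x} : Set ↥(alternatingGroup α))) →* ↥(centralizer ({(x : Perm α)} : Set (Perm α))) :=
    { toFun := fun c => ⟨((c : ↥(alternatingGroup α)) : Perm α), by
        rw [mem_centralizer_singleton_iff]
        exact congrArg Subtype.val (mem_centralizer_singleton_iff.mp c.2)⟩
      map_one' := rfl
      map_mul' := fun _ _ => rfl }
  have hf : Function.Injective f := by
    intro a b hab
    apply Subtype.ext
    apply Subtype.ext
    exact congrArg (fun z : ↥(centralizer ({(x : Perm α)} : Set (Perm α))) => (z : Perm α)) hab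
  have hr : f.range = (alternatingGroup α).subgroupOf (centralizer ({(x : Perm α)} : Set (Perm α))) := by
    ext c
    constructor
    · rintro ⟨d, rfl⟩
      exact (d : ↥(alternatingGroup α)).2
    · intro hc
      have hc' : (c : Perm α) ∈ alternatingGroup α := hc
      refine ⟨⟨⟨(c : Perm α), hc'⟩, ?_⟩, rfl⟩
      rw [mem_centralizer_singleton_iff]
      apply Subtype.ext
      exact mem_centralizer_singleton_iff.mp c.2
  have hn : f.range.Normal := by
    rw [hr]
    infer_instance
  exact (h1.subnormal hn.isSubnormal).congr (MonoidHom.ofInjective hf).symm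

end Cent

end Cfsg.Agent.BpAlt

end

-- merged: Cfsg.Agent.BpAlt.Row
section

/-!
# S1332: the alternating rows (WP6)

* `good_of_lt` : a group with fewer than 120 elements is good;
* `bpS_of_inner` : all automorphisms of order `p` are inner and centralizers of elements of order `p` are good;
* `BpS.congr`;
* `row` : `BpS p A_n` for `n ≥ 5`, `p` odd.
-/

set_option autoImplicit false
set_option linter.unusedSectionVars false

namespace Cfsg.Agent.BpAlt

open Subgroup Cfsg Cfsg.Agent.Lib
open Cfsg.Agent.BpTab (Good BpS)
open Cfsg.Agent.CpAut (AutInner)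

universe u v

/-- The row format is invariant under isomorphism. -/
theorem bpS_congr {X : Type u} {Y : Type v} [Group X] [Group Y] [Finite X] {p : ℕ} [Fact p.Prime] (e : X ≃* Y)
    (h : BpS p X) : BpS p Y := by
  intro y hy
  have : Finite Y := Finite.of_equiv X e.toEquiv
  have h1 : MulAut.congr e ((MulAut.congr e).symm y) = y := (MulAut.congr e).apply_symm_apply y
  have h2 : orderOf ((MulAut.congr e).symm y) = p := by rw [MulEquiv.orderOf_eq, hy]
  have h3 := (h _ h2).congr (CpAut.fixEquiv e ((MulAut.congr e).symm y))
  rwa [h1] at h3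

/-- All automorphisms of order `p` are inner and the centralizers of the elements of order `p` are good. -/
theorem bpS_of_inner {X : Type u} [Group X] {p : ℕ} (hc : center X = ⊥) (hi : AutInner p X)
    (h : ∀ g : X, orderOf g = p → Good p ↥(centralizer ({g} : Set X))) : BpS p X := by
  intro x hx
  obtain ⟨g, rfl⟩ := hi x hx
  rw [CpAut.orderOf_conj hc] at hx
  rw [CpAut.fixedSubgroup_conj]
  exact h g hx

/-- Groups with fewer than 60 elements are solvable. -/
theorem solvable_of_lt : ∀ (n : ℕ) (G : Type u) [Group G] [Finite G], Nat.card G = n → n < 60 →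
    Group.IsSolvable G := by
  intro n
  induction n using Nat.strong_induction_on with
  | _ n ih =>
    intro G _ _ hG hn
    by_cases hs : IsSimpleGroup G
    · by_cases hcy : IsCyclic G
      · have := hcy
        let _ : CommGroup G := IsCyclic.commGroup
        infer_instance
      · exfalso
        have := S0493.result hcy (by omega)
        omega
    · rcases subsingleton_or_nontrivial G with ht | ht
      · infer_instance
      · have h1 : ∃ N : Subgroup G, N.Normal ∧ N ≠ ⊥ ∧ N ≠ ⊤ := by
          by_contra hcon
          push Not at hcon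
          apply hs
          exact ⟨fun N hN => by
            by_contra h
            rw [not_or] at h
            exact h.2 (hcon N hN h.1)⟩
        obtain ⟨N, hN, hb, htop⟩ := h1
        have hN' := hN
        have hc := N.card_mul_index
        have hN1 : 1 < Nat.card ↥N := (Subgroup.one_lt_card_iff_ne_bot N).mpr hb
        have hi1 : N.index ≠ 1 := fun h => htop (Subgroup.index_eq_one.mp h)
        have hi0 : N.index ≠ 0 := Subgroup.index_ne_zero_of_finite
        have hq : Nat.card (G ⧸ N) = N.index := rfl
        have hlt1 : Nat.card ↥N < n := by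
          rw [← hG, ← hc]
          have : 2 ≤ N.index := by omega
          nlinarith
        have hlt2 : Nat.card (G ⧸ N) < n := by
          rw [hq, ← hG, ← hc]
          have : 1 ≤ N.index := by omega
          nlinarith
        have s1 := ih _ hlt1 ↥N rfl (by omega)
        have s2 := ih _ hlt2 (G ⧸ N) rfl (by omega)
        exact Group.isSolvable_of_ker_le_range N.subtype (QuotientGroup.mk' N)
          (by rw [QuotientGroup.ker_mk', Subgroup.range_subtype])

/-- Groups with fewer than 120 elements are good. -/
theorem good_of_lt {H : Type u} [Group H] [Finite H] {p : ℕ} [hp : Fact p.Prime] (h : Nat.card H < 120) :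
    Good p H := by
  by_cases hc : pPrimeCore p H = ⊥
  · exact BpTab.good_of_core hc
  · have hn : (pPrimeCore p H).Normal := Cores.pPrimeCore_normal p
    have h1 : Nat.card (H ⧸ pPrimeCore p H) < 60 := by
      have h2 := (pPrimeCore p H).card_mul_index
      have h3 : 1 < Nat.card ↥(pPrimeCore p H) := (Subgroup.one_lt_card_iff_ne_bot _).mpr hc
      change (pPrimeCore p H).index < 60
      nlinarith
    have hs := solvable_of_lt _ (H ⧸ pPrimeCore p H) rfl h1
    refine BpTab.good_of_none fun K hK => ?_
    exact SignalizersComponents.Components.quasisimple_not_isSolvable hK.2.1.2 inferInstance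

/-- Proper subgroups of a simple group of index `k` : `|G| ≤ k!`. -/
theorem card_le_factorial {G : Type u} [Group G] [Finite G] [IsSimpleGroup G] {H : Subgroup G} (hH : H ≠ ⊤) :
    Nat.card G ≤ H.index.factorial := by
  classical
  have h1 : (MulAction.toPermHom G (G ⧸ H)).ker = ⊥ := by
    rcases (inferInstance : ((MulAction.toPermHom G (G ⧸ H)).ker).Normal).eq_bot_or_eq_top with h | h
    · exact h
    · exfalso
      apply hH
      rw [← Subgroup.normalCore_eq_ker] at h
      exact top_le_iff.mp (h ▸ Subgroup.normalCore_le H)
  have h2 := Nat.card_le_card_of_injective _ ((MonoidHom.ker_eq_bot_iff _).mp h1)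
  rwa [Nat.card_perm] at h2

/-- **WP6** : the alternating groups, `p` odd. -/
theorem row {n p : ℕ} (hn : 5 ≤ n) (hp : p.Prime) (hp2 : p ≠ 2) : BpS p ↥(alternatingGroup (Fin n)) := by
  have : Fact p.Prime := ⟨hp⟩
  rcases Nat.lt_or_ge n 7 with h7 | h7
  · intro x hx
    have hs : IsSimpleGroup (alternatingGroup (Fin n)) :=
      alternatingGroup.isSimpleGroup (by rwa [Nat.card_eq_fintype_card, Fintype.card_fin])
    have hne : fixedSubgroup x ≠ ⊤ := by
      intro h
      have h1 : x = 1 := by
        apply MulEquiv.ext
        intro a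
        have h2 : a ∈ fixedSubgroup x := by rw [h]; exact mem_top a
        exact h2
      rw [h1, orderOf_one] at hx
      exact hp.ne_one hx.symm
    have h1 := card_le_factorial hne
    have h2 := (fixedSubgroup x).card_mul_index
    have hnt : Nontrivial (Fin n) := Fin.nontrivial_iff_two_le.2 (by omega)
    have h3 : 2 * Nat.card (alternatingGroup (Fin n)) = n.factorial := by
      rw [Nat.card_eq_fintype_card, two_mul_card_alternatingGroup, Fintype.card_perm, Fintype.card_fin]
    apply good_of_lt
    have h4 : Nat.card (alternatingGroup (Fin n)) ≤ 360 := by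
      have h5 : n.factorial ≤ Nat.factorial 6 := Nat.factorial_le (by omega)
      rw [show Nat.factorial 6 = 720 from rfl] at h5
      omega
    have h6 : 60 ≤ Nat.card (alternatingGroup (Fin n)) := by
      have h5 : Nat.factorial 5 ≤ n.factorial := Nat.factorial_le (by omega)
      rw [show Nat.factorial 5 = 120 from rfl] at h5
      omega
    have h7 : 4 ≤ (fixedSubgroup x).index := by
      by_contra hlt
      have h8 : (fixedSubgroup x).index.factorial ≤ Nat.factorial 3 := Nat.factorial_le (by omega)
      rw [show Nat.factorial 3 = 6 from rfl] at h8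
      omega
    nlinarith
  · exact bpS_of_inner (CpAut.center_alt hn) (CpAut.autInner_alt h7 hp hp2) fun g hg => good_cent_alt g hg

end Cfsg.Agent.BpAlt

end
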